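import Groth.Agent.RingPO.Props2
import Groth.Agent.BlowUpLib.Glue
import Mathlib.RingTheory.DiscreteValuationRing.Basic
import Mathlib.RingTheory.AdicCompletion.AsTensorProduct
import Mathlib.RingTheory.AdicCompletion.Completeness

/-!
# Ideals supported in the closed fibre descend from the completion of a discrete valuation ring
-/

set_option autoImplicit false
universe u

open AlgebraicGeometry CategoryTheory CategoryTheory.Limits

namespace Groth.Agent.ZBDesc

/-- Modulo any power of the uniformizer the completion is covered by the ring. -/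
theorem exists_approx (R : Type u) [CommRing R] (ϖ : R) (I : Ideal R) (hI : I = Ideal.span {ϖ})
    (n : ℕ) (z : AdicCompletion I R) : ∃ (r : R) (s : AdicCompletion I R),
      z = algebraMap R (AdicCompletion I R) r + algebraMap R (AdicCompletion I R) ϖ ^ n * s := by
  subst hI
  obtain ⟨r, hr⟩ := Submodule.Quotient.mk_surjective _ (AdicCompletion.eval (Ideal.span {ϖ}) R n z)
  have hmem : z - algebraMap R (AdicCompletion (Ideal.span {ϖ}) R) r ∈
      Ideal.span {ϖ} ^ n • (⊤ : Submodule R (AdicCompletion (Ideal.span {ϖ}) R)) := by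
    rw [AdicCompletion.pow_smul_top_eq_ker_eval (Submodule.fg_span_singleton ϖ)]
    rw [LinearMap.mem_ker, map_sub, ← hr, sub_eq_zero]
    rfl
  rw [Ideal.span_singleton_pow, Submodule.ideal_span_singleton_smul,
    Submodule.mem_smul_pointwise_iff_exists] at hmem
  obtain ⟨s, -, hs⟩ := hmem
  refine ⟨r, s, ?_⟩
  rw [← map_pow, ← Algebra.smul_def, hs, add_sub_cancel]

/-- A pushout of rings is covered by one leg modulo `t ^ n` when the other side is. -/
theorem exists_decomp {A B C D : CommRingCat.{u}} {f : A ⟶ B} {g : A ⟶ C} {inl : B ⟶ D}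
    {inr : C ⟶ D} (h : IsPushout f g inl inr) (t : A) (n : ℕ)
    (hg : ∀ c : C, ∃ (a : A) (c' : C), c = g.hom a + g.hom t ^ n * c') (x : D) :
    ∃ (b : B) (y : D), x = inl.hom b + inl.hom (f.hom t) ^ n * y := by
  have hw : ∀ a : A, inl.hom (f.hom a) = inr.hom (g.hom a) := fun a =>
    DFunLike.congr_fun (congrArg CommRingCat.Hom.hom h.w) a
  let S : Subring D :=
    { carrier := {x | ∃ (b : B) (y : D), x = inl.hom b + inl.hom (f.hom t) ^ n * y}
      mul_mem' := by
        rintro _ _ ⟨b, y, rfl⟩ ⟨b', y', rfl⟩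
        exact ⟨b * b', inl.hom b * y' + y * inl.hom b' + inl.hom (f.hom t) ^ n * y * y', by
          rw [map_mul]; ring⟩
      one_mem' := ⟨1, 0, by simp⟩
      add_mem' := by
        rintro _ _ ⟨b, y, rfl⟩ ⟨b', y', rfl⟩
        exact ⟨b + b', y + y', by rw [map_add]; ring⟩
      zero_mem' := ⟨0, 0, by simp⟩
      neg_mem' := by
        rintro _ ⟨b, y, rfl⟩
        exact ⟨-b, -y, by rw [map_neg]; ring⟩ }
  have hl : ∀ b, inl.hom b ∈ S := fun b => ⟨b, 0, by simp⟩
  have hr : ∀ c, inr.hom c ∈ S := fun c => by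
    obtain ⟨a, c', rfl⟩ := hg c
    exact ⟨f.hom a, inr.hom c', by rw [map_add, map_mul, map_pow, ← hw, ← hw]⟩
  let jl : B ⟶ CommRingCat.of S := CommRingCat.ofHom (inl.hom.codRestrict S hl)
  let jr : C ⟶ CommRingCat.of S := CommRingCat.ofHom (inr.hom.codRestrict S hr)
  let p : D ⟶ CommRingCat.of S := h.desc jl jr (by
    ext a
    exact hw a)
  have hp : p ≫ CommRingCat.ofHom S.subtype = 𝟙 D := by
    apply h.hom_ext
    · rw [← Category.assoc, h.inl_desc, Category.comp_id]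
      rfl
    · rw [← Category.assoc, h.inr_desc, Category.comp_id]
      rfl
  have : ((p.hom x : S) : D) = x := DFunLike.congr_fun (congrArg CommRingCat.Hom.hom hp) x
  exact this ▸ (p.hom x).2

section

variable {R : CommRingCat.{u}} {Rh : CommRingCat.{u}} (m : R ⟶ Rh) {Y Yh : Scheme.{u}}
  (q : Y ⟶ Spec R) {π : Yh ⟶ Y} {s : Yh ⟶ Spec Rh} (H : IsPullback π s q (Spec.map m))
  (ϖ : R)

include H in
/-- Local decomposition of sections of the base change. -/
theorem exists_decomp_sections [IsAffineHom π] (n : ℕ)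
    (hg : ∀ c : Rh, ∃ (a : R) (c' : Rh), c = m.hom a + m.hom ϖ ^ n * c')
    (U : Y.affineOpens) (x : Γ(Yh, π ⁻¹ᵁ U.1)) :
    ∃ (a : Γ(Y, U.1)) (y : Γ(Yh, π ⁻¹ᵁ U.1)), x = (π.app U.1).hom a +
      (π.app U.1).hom ((q.appLE ⊤ U.1 le_top).hom ((Scheme.ΓSpecIso R).inv.hom ϖ)) ^ n * y := by
  have h := RingPO.isPushout_appLE_of_isPullback H (isAffineOpen_top _) U.2
    (e := le_top) (isAffineOpen_top _) (hWe := (by simp)) (U.2.preimage π) (hWe' := rfl)
    (ec := le_top)
  have happ : π.appLE U.1 (π ⁻¹ᵁ U.1) le_rfl = π.app U.1 := (π.app_eq_appLE).symm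
  rw [happ] at h
  refine exists_decomp h _ n (fun c => ?_) x
  have hnat : ∀ r : R, ((Spec.map m).appLE ⊤ ⊤ le_top).hom ((Scheme.ΓSpecIso R).inv.hom r) =
      (Scheme.ΓSpecIso Rh).inv.hom (m.hom r) := fun r => by
    have e := congrArg CommRingCat.Hom.hom (Scheme.ΓSpecIso_inv_naturality m)
    have e' : (Spec.map m).appLE ⊤ ⊤ le_top = (Spec.map m).appTop := by
      simp [Scheme.Hom.appLE]
    rw [e']
    exact (DFunLike.congr_fun e r).symm
  obtain ⟨a, c', hc⟩ := hg ((Scheme.ΓSpecIso Rh).hom.hom c)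
  refine ⟨(Scheme.ΓSpecIso R).inv.hom a, (Scheme.ΓSpecIso Rh).inv.hom c', ?_⟩
  rw [hnat, hnat, ← map_pow, ← map_mul, ← map_add, ← hc]
  exact ((Scheme.ΓSpecIso Rh).commRingCatIsoToRingEquiv.symm_apply_apply c).symm

variable (I : Yh.IdealSheafData)
  (hI : ∀ x ∈ (I.support : Set Yh), (π ≫ q).base x ∉ (Spec R).basicOpen ((Scheme.ΓSpecIso R).inv.hom ϖ))

include hI in
/-- A power of the parameter lies in the ideal on each piece. -/
theorem exists_pow_mem [IsAffineHom π] (U : Y.affineOpens) : ∃ n : ℕ,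
    (π.app U.1).hom ((q.appLE ⊤ U.1 le_top).hom ((Scheme.ΓSpecIso R).inv.hom ϖ)) ^ n ∈
      I.ideal ⟨π ⁻¹ᵁ U.1, U.2.preimage π⟩ := by
  let V : Yh.affineOpens := ⟨π ⁻¹ᵁ U.1, U.2.preimage π⟩
  set t := (π.app U.1).hom ((q.appLE ⊤ U.1 le_top).hom ((Scheme.ΓSpecIso R).inv.hom ϖ)) with ht
  suffices t ∈ (I.ideal V).radical from this
  rw [Ideal.radical_eq_sInf, Ideal.mem_sInf]
  rintro P ⟨hle, hP⟩
  by_contra htP
  let x : Yh := V.2.fromSpec ⟨P, hP⟩
  have hxV : x ∈ V.1 := by
    have h' : x ∈ Set.range V.2.fromSpec := ⟨_, rfl⟩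
    rw [V.2.range_fromSpec] at h'
    exact h'
  have hxb : x ∈ Yh.basicOpen t := by
    have : (⟨P, hP⟩ : PrimeSpectrum _) ∈ PrimeSpectrum.basicOpen t := htP
    rw [← V.2.fromSpec_preimage_basicOpen] at this
    exact this
  have hxs : x ∈ (I.support : Set Yh) := by
    refine (Scheme.IdealSheafData.mem_support_iff_of_mem hxV).mpr ?_
    rw [Scheme.mem_zeroLocus_iff]
    intro f hf hxf
    have : (⟨P, hP⟩ : PrimeSpectrum _) ∈ PrimeSpectrum.basicOpen f := by
      rw [← V.2.fromSpec_preimage_basicOpen]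
      exact hxf
    exact this (hle hf)
  refine hI x hxs ?_
  have h1 : π.base x ∈ Y.basicOpen ((q.appLE ⊤ U.1 le_top).hom ((Scheme.ΓSpecIso R).inv.hom ϖ)) := by
    rw [ht, ← Scheme.preimage_basicOpen] at hxb
    exact hxb
  rw [Scheme.basicOpen_appLE] at h1
  exact h1.2

include H hI in
/-- Descent of an ideal sheaf supported off `D(ϖ)`. -/
theorem exists_descent [IsAffineHom π]
    (hg : ∀ n, ∀ c : Rh, ∃ (a : R) (c' : Rh), c = m.hom a + m.hom ϖ ^ n * c') :
    ∃ I₀ : Y.IdealSheafData,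
      (∀ y ∈ (I₀.support : Set Y), q.base y ∉ (Spec R).basicOpen ((Scheme.ΓSpecIso R).inv.hom ϖ)) ∧
      I₀.comap π = I := by
  refine ⟨I.map π, fun y hy hq => ?_, le_antisymm (Scheme.IdealSheafData.comap_map_le _ _) ?_⟩
  · obtain ⟨_, ⟨U, hU, rfl⟩, hyU, -⟩ :=
      Y.isBasis_affineOpens.exists_subset_of_mem_open (Set.mem_univ y) isOpen_univ
    obtain ⟨n, hn⟩ := exists_pow_mem q ϖ I hI ⟨U, hU⟩
    have hmem : (q.appLE ⊤ U le_top).hom ((Scheme.ΓSpecIso R).inv.hom ϖ) ^ n ∈
        (I.map π).ideal ⟨U, hU⟩ := by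
      rw [Scheme.IdealSheafData.ideal_map_of_isAffineHom, Ideal.mem_comap, map_pow]
      exact hn
    have h2 := (Scheme.IdealSheafData.mem_support_iff_of_mem (U := ⟨U, hU⟩) hyU).mp hy
    rw [Scheme.mem_zeroLocus_iff] at h2
    refine h2 _ hmem ?_
    have h3 : y ∈ Y.basicOpen ((q.appLE ⊤ U le_top).hom ((Scheme.ΓSpecIso R).inv.hom ϖ)) := by
      rw [Scheme.basicOpen_appLE]
      exact ⟨hyU, hq⟩
    rcases n with _ | n
    · rw [pow_zero, Scheme.basicOpen_of_isUnit _ isUnit_one]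
      exact hyU
    · rwa [Scheme.basicOpen_pow _ (h := Nat.succ_pos n)]
  · refine Scheme.IdealSheafData.le_of_iSup_eq_top
      (fun U : Y.affineOpens => (⟨π ⁻¹ᵁ U.1, U.2.preimage π⟩ : Yh.affineOpens)) ?_ fun U x hx => ?_
    · show ⨆ U : Y.affineOpens, π ⁻¹ᵁ U.1 = ⊤
      rw [← Scheme.Hom.preimage_iSup, iSup_affineOpens_eq_top, Scheme.Hom.preimage_top]
    · obtain ⟨n, hn⟩ := exists_pow_mem q ϖ I hI U
      have hle := Scheme.IdealSheafData.le_map_comap (J := I.map π) (f := π) U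
      rw [Scheme.IdealSheafData.ideal_map_of_isAffineHom ((I.map π).comap π)] at hle
      have hmem : ∀ a : Γ(Y, U.1), (π.app U.1).hom a ∈ I.ideal ⟨π ⁻¹ᵁ U.1, U.2.preimage π⟩ →
          (π.app U.1).hom a ∈ ((I.map π).comap π).ideal ⟨π ⁻¹ᵁ U.1, U.2.preimage π⟩ := fun a ha => by
        refine hle ?_
        rw [Scheme.IdealSheafData.ideal_map_of_isAffineHom]
        exact ha
      obtain ⟨a, y, rfl⟩ := exists_decomp_sections m q H ϖ n (hg n) U x
      refine Ideal.add_mem _ (hmem a ?_) (Ideal.mul_mem_right _ _ ?_)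
      · have := Ideal.sub_mem _ hx (Ideal.mul_mem_right y _ hn)
        rwa [add_sub_cancel_right] at this
      · rw [← map_pow]
        exact hmem _ (by rw [map_pow]; exact hn)

end

/-- The closed point of a discrete valuation ring is cut out by a uniformizer. -/
theorem notMem_basicOpen_iff {R : Type u} [CommRing R] [IsDomain R] [IsDiscreteValuationRing R]
    {ϖ : R} (hϖ : IsLocalRing.maximalIdeal R = Ideal.span {ϖ}) (p : ↥(Spec (CommRingCat.of R))) :
    p ∉ (Spec (CommRingCat.of R)).basicOpen ((Scheme.ΓSpecIso (CommRingCat.of R)).inv.hom ϖ) ↔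
      p = IsLocalRing.closedPoint R := by
  rw [basicOpen_eq_of_affine]
  show ¬ ϖ ∉ p.asIdeal ↔ _
  rw [not_not]
  constructor
  · intro h
    refine PrimeSpectrum.ext ((IsLocalRing.maximalIdeal.isMaximal R).eq_of_le p.isPrime.ne_top ?_).symm
    rw [hϖ, Ideal.span_le, Set.singleton_subset_iff]
    exact h
  · rintro rfl
    show ϖ ∈ IsLocalRing.maximalIdeal R
    rw [hϖ]
    exact Ideal.mem_span_singleton_self ϖ

end Groth.Agent.ZBDesc
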